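import Groth.Prelude.Def_W4c1limliniiiiRamP1
import Mathlib.LinearAlgebra.Dimension.Constructions
import Mathlib.FieldTheory.IsAlgClosed.Basic
import Mathlib.Algebra.CharP.Lemmas
import Mathlib.RingTheory.Polynomial.Wronskian

/-!
# A one-parameter family of pencils
-/

set_option autoImplicit false
set_option maxHeartbeats 400000
universe u

open Polynomial W4c1limliniiii

noncomputable section

namespace Groth.Agent.RamP129

variable {k : Type u} [Field k] {p d n : ℕ} [Fact p.Prime] [CharP k p]

theorem empty_or_infinite [IsAlgClosed k] (P : Fin n → k) (e : Fin n → ℕ) (E : ℕ) (hlt : ∀ i, e i < p) (hE : p < E) :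
    {V : Submodule k k[X] | V ∈ ramMaps d P e ∧ HasRamIdxInf d V E} = ∅ ∨
      {V : Submodule k k[X] | V ∈ ramMaps d P e ∧ HasRamIdxInf d V E}.Infinite := by
  rcases Set.eq_empty_or_nonempty {V : Submodule k k[X] | V ∈ ramMaps d P e ∧ HasRamIdxInf d V E} with h | h
  · exact Or.inl h
  refine Or.inr ?_
  obtain ⟨V, ⟨⟨hdeg, hrk, ⟨G, hG, hGd⟩, hbase⟩, hsep, hram⟩, ⟨F, hF, hF0, hFd⟩, hinf⟩ := h
  have hFdeg : F.natDegree + E = d := le_antisymm hFd (hinf F hF hF0)
  have hp0 : 0 < p := (Fact.out : p.Prime).pos
  have hG0 : G ≠ 0 := fun h => by rw [h, natDegree_zero] at hGd; omega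
  have key : ∀ a b : k, C a * F + C b * G = 0 → a = 0 ∧ b = 0 := by
    intro a b h
    have hb : b = 0 := by
      by_contra hb
      have h1 := congrArg (fun q : k[X] => q.coeff d) h
      simp only [coeff_add, coeff_C_mul, coeff_zero] at h1
      rw [coeff_eq_zero_of_natDegree_lt (show F.natDegree < d by omega), mul_zero, zero_add] at h1
      have hc : G.coeff d ≠ 0 := by rw [← hGd]; exact mt leadingCoeff_eq_zero.1 hG0
      exact hc ((mul_eq_zero.1 h1).resolve_left hb)
    rw [hb, C_0, zero_mul, add_zero] at h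
    exact ⟨C_eq_zero.1 ((mul_eq_zero.1 h).resolve_right hF0), hb⟩
  have hli : ∀ x y : k[X], (∀ a b : k, C a * x + C b * y = 0 → a = 0 ∧ b = 0) →
      Module.finrank k (Submodule.span k ({x, y} : Set k[X])) = 2 := by
    intro x y hxy
    rw [← Matrix.range_cons_cons_empty, finrank_span_eq_card (R := k) (b := ![x, y]) ?_, Fintype.card_fin]
    rw [LinearIndependent.pair_iff]
    intro a b hab
    exact hxy a b (by rwa [C_mul', C_mul'])
  haveI : Module.Finite k V := Module.finite_of_finrank_eq_succ hrk
  have hV : V = Submodule.span k ({F, G} : Set k[X]) := by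
    refine (Submodule.eq_of_le_of_finrank_le (Submodule.span_le.2 ?_) ?_).symm
    · rintro x (rfl | rfl) <;> assumption
    · rw [hrk, hli F G key]
  let G' : k → k[X] := fun t => G + C t * X ^ p * F
  let W : k → Submodule k k[X] := fun t => Submodule.span k ({F, G' t} : Set k[X])
  have hmem : ∀ {x y z : k[X]}, z ∈ Submodule.span k ({x, y} : Set k[X]) ↔ ∃ a b : k, C a * x + C b * y = z := by
    intro x y z
    rw [Submodule.mem_span_pair]
    simp only [C_mul']
  have hsmall : ∀ t, (C t * X ^ p * F).natDegree < d := by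
    intro t
    refine lt_of_le_of_lt natDegree_mul_le (lt_of_le_of_lt (Nat.add_le_add_right natDegree_mul_le _) ?_)
    rw [natDegree_C, natDegree_X_pow]; omega
  have hG'd : ∀ t, (G' t).natDegree = d := fun t => by
    rw [natDegree_add_eq_left_of_natDegree_lt (by rw [hGd]; exact hsmall t), hGd]
  have hGc : G.coeff d ≠ 0 := by rw [← hGd]; exact mt leadingCoeff_eq_zero.1 hG0
  have hkey' : ∀ t a b, C a * F + C b * G' t = 0 → a = 0 ∧ b = 0 := by
    intro t a b h
    have h1 := congrArg (fun q : k[X] => q.coeff d) h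
    simp only [G', coeff_add, coeff_C_mul, coeff_zero] at h1
    rw [coeff_eq_zero_of_natDegree_lt (show F.natDegree < d by omega), coeff_eq_zero_of_natDegree_lt (hsmall t),
      mul_zero, zero_add, add_zero] at h1
    have hb : b = 0 := (mul_eq_zero.1 h1).resolve_right hGc
    rw [hb, C_0, zero_mul, add_zero] at h
    exact ⟨C_eq_zero.1 ((mul_eq_zero.1 h).resolve_right hF0), hb⟩
  have hWmem : ∀ t, W t ∈ {V : Submodule k k[X] | V ∈ ramMaps d P e ∧ HasRamIdxInf d V E} := by
    intro t
    refine ⟨⟨⟨?_, hli _ _ (hkey' t), ⟨G' t, Submodule.subset_span (by simp), hG'd t⟩, fun a => ?_⟩, ?_, fun i => ?_⟩, ?_⟩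
    · refine Submodule.span_le.2 ?_
      rintro x (rfl | rfl) <;> rw [SetLike.mem_coe, mem_degreeLE] <;> refine degree_le_natDegree.trans ?_
      · exact_mod_cast (show x.natDegree ≤ d by omega)
      · exact_mod_cast (hG'd t).le
    · obtain ⟨s, hs, hsa⟩ := hbase a
      by_contra hall
      simp only [not_exists, not_and, not_not] at hall
      have e1 := hall F (Submodule.subset_span (by simp))
      have e2 := hall (G' t) (Submodule.subset_span (by simp))
      rw [hV, hmem] at hs
      obtain ⟨u, v, rfl⟩ := hs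
      simp only [G', eval_add, eval_mul, e1, mul_zero, add_zero] at e2
      simp [e1, e2] at hsa
    · obtain ⟨A, hA, B, hB, hAB⟩ := hsep
      refine ⟨F, Submodule.subset_span (by simp), G' t, Submodule.subset_span (by simp), fun h => hAB ?_⟩
      have hz : F * derivative G - derivative F * G = 0 := by
        rw [← h]
        have : ((p : ℕ) : k) = 0 := CharP.cast_eq_zero k p
        simp only [G', wronskian, derivative_add, derivative_mul, derivative_C, derivative_X_pow, this, map_zero,
          zero_mul]
        ring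
      rw [hV, hmem] at hA hB
      obtain ⟨a, b, rfl⟩ := hA
      obtain ⟨a', b', rfl⟩ := hB
      simp only [wronskian, derivative_add, derivative_mul, derivative_C, zero_mul, zero_add]
      linear_combination (C a * C b' - C b * C a') * hz
    · have hP : (C t * X ^ p * F : k[X]) - C (t * P i ^ p) * F = C t * (X - C (P i)) ^ p * F := by
        rw [sub_pow_char, C_mul, C_pow]; ring
      have hdvd : ∀ c : k, (X - C (P i)) ^ p ∣ C c * (C t * (X - C (P i)) ^ p * F) := fun c =>
        ⟨C c * C t * F, by ring⟩
      have htr : ∀ a b : k, C (a - b * (t * P i ^ p)) * F + C b * G' t =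
          (C a * F + C b * G) + C b * (C t * (X - C (P i)) ^ p * F) := fun a b => by
        rw [← hP]; simp only [G', C_sub, C_mul]; ring
      obtain ⟨⟨s, hs, hs0, hse⟩, hmax⟩ := hram i
      refine ⟨?_, fun s' hs' hs'0 => ?_⟩
      · rw [hV, hmem] at hs
        obtain ⟨a, b, rfl⟩ := hs
        refine ⟨_, hmem.2 ⟨a - b * (t * P i ^ p), b, rfl⟩, fun h0 => ?_, ?_⟩
        · obtain ⟨h1, h2⟩ := hkey' t _ _ h0
          refine hs0 ?_
          rw [h2, zero_mul, sub_zero] at h1
          rw [h1, h2]; simp
        · rw [le_rootMultiplicity_iff]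
          · rw [htr]
            exact dvd_add ((le_rootMultiplicity_iff hs0).1 hse) ((pow_dvd_pow _ (hlt i).le).trans (hdvd b))
          · intro h0
            obtain ⟨h1, h2⟩ := hkey' t _ _ h0
            refine hs0 ?_
            rw [h2, zero_mul, sub_zero] at h1
            rw [h1, h2]; simp
      · rw [hmem] at hs'
        obtain ⟨a', b, rfl⟩ := hs'
        set a := a' + b * (t * P i ^ p)
        have ha : a' = a - b * (t * P i ^ p) := by simp [a]
        rw [ha, htr] at hs'0 ⊢
        by_contra hlt'
        have h1 : (X - C (P i)) ^ (e i + 1) ∣ (C a * F + C b * G) + C b * (C t * (X - C (P i)) ^ p * F) :=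
          (le_rootMultiplicity_iff hs'0).1 (by omega)
        have h2 : (X - C (P i)) ^ (e i + 1) ∣ C a * F + C b * G :=
          (dvd_add_left ((pow_dvd_pow _ (hlt i)).trans (hdvd b))).1 h1
        by_cases h0 : C a * F + C b * G = 0
        · obtain ⟨-, hb⟩ := key a b h0
          rw [h0, hb] at hs'0
          exact hs'0 (by simp)
        · have h3 := hmax _ (by rw [hV, hmem]; exact ⟨a, b, rfl⟩) h0
          have h4 := (le_rootMultiplicity_iff h0).2 h2
          omega
    · refine ⟨⟨F, Submodule.subset_span (by simp), hF0, hFd⟩, fun s hs hs0 => ?_⟩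
      rw [hmem] at hs
      obtain ⟨a, b, rfl⟩ := hs
      by_cases hb : b = 0
      · subst hb
        rw [C_0, zero_mul, add_zero] at hs0 ⊢
        rw [natDegree_C_mul (fun h => hs0 (by rw [h, C_0, zero_mul]))]
        omega
      · have : (C a * F + C b * G' t).natDegree = d := by
          have h2 : (C b * G' t).natDegree = d := by rw [natDegree_C_mul hb, hG'd]
          rw [natDegree_add_eq_right_of_natDegree_lt, h2]
          rw [h2]; exact lt_of_le_of_lt (natDegree_C_mul_le _ _) (by omega)
        omega
  refine Set.infinite_of_injective_forall_mem (f := W) (fun t t' htt => ?_) hWmem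
  have h1 : G' t ∈ W t' := htt ▸ Submodule.subset_span (by simp)
  rw [hmem] at h1
  obtain ⟨a, b, hab⟩ := h1
  have h2 := congrArg (fun q : k[X] => q.coeff d) hab
  simp only [G', coeff_add, coeff_C_mul] at h2
  rw [coeff_eq_zero_of_natDegree_lt (show F.natDegree < d by omega), coeff_eq_zero_of_natDegree_lt (hsmall t),
    coeff_eq_zero_of_natDegree_lt (hsmall t'), mul_zero, zero_add, add_zero] at h2
  have hb : b = 1 := by
    have : (b - 1) * G.coeff d = 0 := by rw [sub_mul, h2]; ring
    exact sub_eq_zero.1 ((mul_eq_zero.1 this).resolve_right hGc)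
  subst hb
  have h3 : (C a + C (t' - t) * X ^ p) * F = 0 := by
    have : C a * F + C 1 * G' t' - G' t = 0 := sub_eq_zero.2 hab
    simp only [G', C_1, one_mul] at this
    rw [C_sub]
    linear_combination this
  have h4 := congrArg (fun q : k[X] => q.coeff p) ((mul_eq_zero.1 h3).resolve_right hF0)
  rw [coeff_add, coeff_C, if_neg hp0.ne', zero_add, coeff_C_mul, coeff_X_pow, if_pos rfl, mul_one, coeff_zero] at h4
  exact (sub_eq_zero.1 h4).symm

end Groth.Agent.RamP129
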